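import Cfsg.Agent.Lib.Cert.Mat
import Cfsg.Agent.Lib.Cert.Out

set_option autoImplicit false
set_option maxRecDepth 100000

namespace Cfsg.Agent.Ct.M22

open Cfsg.Agent.PC

open Cfsg.Agent.Fi Cfsg.Agent.Ct
def W_t : TL := (TL.node (TL.node (TL.node (TL.node (TL.node (TL.leaf [nat_lit 0, nat_lit 0, nat_lit 3, nat_lit 3, nat_lit 3, nat_lit 3, nat_lit 1, nat_lit 3, nat_lit 3, nat_lit 3, nat_lit 3, nat_lit 4, nat_lit 4, nat_lit 4, nat_lit 4, nat_lit 4, nat_lit 4, nat_lit 3, nat_lit 3, nat_lit 3, nat_lit 3, nat_lit 2, nat_lit 3, nat_lit 1, nat_lit 4, nat_lit 4, nat_lit 4, nat_lit 4, nat_lit 4, nat_lit 4, nat_lit 3, nat_lit 3, nat_lit 3, nat_lit 3, nat_lit 0]) (TL.leaf [nat_lit 3, nat_lit 4, nat_lit 4, nat_lit 4, nat_lit 4, nat_lit 4, nat_lit 4, nat_lit 2, nat_lit 5, nat_lit 5, nat_lit 5, nat_lit 5, nat_lit 2, nat_lit 2, nat_lit 0, nat_lit 5, nat_lit 2, nat_lit 2, nat_lit 1, nat_lit 2, nat_lit 2, nat_lit 3])) (TL.leaf [nat_lit 5, nat_lit 5,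 nat_lit 5, nat_lit 5, nat_lit 1, nat_lit 0, nat_lit 5, nat_lit 5, nat_lit 5, nat_lit 5, nat_lit 4, nat_lit 0, nat_lit 0, nat_lit 1, nat_lit 3, nat_lit 3, nat_lit 3, nat_lit 3, nat_lit 5, nat_lit 0, nat_lit 0, nat_lit 5, nat_lit 5, nat_lit 5, nat_lit 5, nat_lit 2])) (TL.node (TL.leaf [nat_lit 4, nat_lit 5, nat_lit 1, nat_lit 5, nat_lit 5, nat_lit 5, nat_lit 5, nat_lit 4, nat_lit 4, nat_lit 4, nat_lit 4, nat_lit 4, nat_lit 4, nat_lit 4, nat_lit 4, nat_lit 4, nat_lit 4, nat_lit 4, nat_lit 4, nat_lit 3, nat_lit 3, nat_lit 3, nat_lit 3, nat_lit 0, nat_lit 3, nat_lit 4, nat_lit 4, nat_lit 4, nat_lit 4, nat_lit 4, nat_lit 4, nat_lit 2, nat_lit 0, nat_lit 0, nat_lit 3]) (TL.leaf []))) (TL.node (TL.node (TL.node (TL.leaf [nat_lit 3, nat_lit 4, nat_lit 3, nat_lit 1, nat_lit 3, nat_lit 3, nat_lit 3, nat_lit 3, nat_lit 3, nat_lit 3, nat_lit 3, nat_lit 3, nat_lit 4, nat_lit 4, nat_lit 4, nat_lit 4, nat_lit 4, nat_lit 4, nat_lit 0, nat_lit 4, nat_lit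 4, nat_lit 4, nat_lit 4, nat_lit 4, nat_lit 4, nat_lit 3, nat_lit 3, nat_lit 3, nat_lit 3, nat_lit 3, nat_lit 3, nat_lit 3, nat_lit 3]) (TL.leaf [nat_lit 0, nat_lit 0, nat_lit 3, nat_lit 3, nat_lit 3, nat_lit 3, nat_lit 1, nat_lit 3, nat_lit 3, nat_lit 3, nat_lit 3, nat_lit 4, nat_lit 4, nat_lit 4, nat_lit 4, nat_lit 4, nat_lit 4, nat_lit 3, nat_lit 5, nat_lit 5, nat_lit 5, nat_lit 5, nat_lit 2, nat_lit 2, nat_lit 0])) (TL.leaf [nat_lit 5, nat_lit 5, nat_lit 5, nat_lit 5, nat_lit 3, nat_lit 3, nat_lit 3, nat_lit 3, nat_lit 0, nat_lit 0, nat_lit 5, nat_lit 2, nat_lit 2, nat_lit 4, nat_lit 4, nat_lit 4, nat_lit 4, nat_lit 4, nat_lit 4, nat_lit 4, nat_lit 4, nat_lit 4, nat_lit 4, nat_lit 4, nat_lit 4])) (TL.node (TL.leaf [nat_lit 0, nat_lit 0, nat_lit 5, nat_lit 0, nat_lit 0, nat_lit 1, nat_lit 4, nat_lit 4, nat_lit 4, nat_lit 4, nat_lit 4, nat_lit 4, nat_lit 3, nat_lit 3, nat_lit 3, nat_lit 3, nat_lit 4, nat_lit 4, nat_lit 4, nat_lit 4,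 nat_lit 4, nat_lit 4, nat_lit 3, nat_lit 3, nat_lit 3, nat_lit 3, nat_lit 4, nat_lit 3]) (TL.leaf [nat_lit 1, nat_lit 5, nat_lit 4, nat_lit 2, nat_lit 3, nat_lit 3, nat_lit 3, nat_lit 3, nat_lit 0, nat_lit 0, nat_lit 5, nat_lit 0, nat_lit 0, nat_lit 5, nat_lit 0, nat_lit 0, nat_lit 5, nat_lit 4])))) (TL.node (TL.node (TL.node (TL.node (TL.leaf [nat_lit 1, nat_lit 4, nat_lit 3, nat_lit 1, nat_lit 3, nat_lit 0, nat_lit 2, nat_lit 2, nat_lit 3, nat_lit 4, nat_lit 0, nat_lit 0, nat_lit 2, nat_lit 1]) (TL.leaf [nat_lit 2, nat_lit 2, nat_lit 3, nat_lit 4, nat_lit 3, nat_lit 4])) (TL.leaf [nat_lit 5, nat_lit 5, nat_lit 5, nat_lit 5, nat_lit 0, nat_lit 0, nat_lit 5, nat_lit 5, nat_lit 5, nat_lit 5, nat_lit 5, nat_lit 5, nat_lit 5, nat_lit 5, nat_lit 2, nat_lit 4, nat_lit 4, nat_lit 4, nat_lit 4, nat_lit 4, nat_lit 4, nat_lit 1, nat_lit 0, nat_lit 0, nat_lit 5, nat_lit 0, nat_lit 0, nat_lit 5, nat_lit 2, nat_lit 2, nat_lit 3, nat_lit 5, nat_lit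 5, nat_lit 5, nat_lit 5])) (TL.node (TL.leaf [nat_lit 2, nat_lit 2, nat_lit 0, nat_lit 5, nat_lit 5, nat_lit 5, nat_lit 5, nat_lit 2, nat_lit 4, nat_lit 4, nat_lit 4, nat_lit 4, nat_lit 4, nat_lit 4, nat_lit 0, nat_lit 0, nat_lit 5, nat_lit 5, nat_lit 5, nat_lit 5, nat_lit 5, nat_lit 5, nat_lit 5, nat_lit 5, nat_lit 4, nat_lit 0, nat_lit 5, nat_lit 0]) (TL.leaf [nat_lit 1, nat_lit 2, nat_lit 2, nat_lit 5, nat_lit 0, nat_lit 0, nat_lit 1, nat_lit 5, nat_lit 5, nat_lit 5, nat_lit 5, nat_lit 2, nat_lit 4, nat_lit 4, nat_lit 4, nat_lit 4, nat_lit 4, nat_lit 4, nat_lit 2, nat_lit 4, nat_lit 5]))) (TL.node (TL.node (TL.leaf [nat_lit 3, nat_lit 3, nat_lit 3, nat_lit 3, nat_lit 2, nat_lit 2, nat_lit 3, nat_lit 4, nat_lit 4, nat_lit 4, nat_lit 4, nat_lit 4, nat_lit 4, nat_lit 0, nat_lit 0, nat_lit 2, nat_lit 2, nat_lit 0, nat_lit 4, nat_lit 2]) (TL.leaf [nat_lit 5, nat_lit 5, nat_lit 5, nat_lit 5, nat_lit 3, nat_lit 4, nat_lit 1, nat_lit 3, nat_lit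 3, nat_lit 3, nat_lit 3, nat_lit 4, nat_lit 4, nat_lit 4, nat_lit 4, nat_lit 4, nat_lit 4, nat_lit 3, nat_lit 3, nat_lit 3, nat_lit 3, nat_lit 0, nat_lit 5, nat_lit 5, nat_lit 5, nat_lit 5])) (TL.node (TL.leaf [nat_lit 1, nat_lit 3, nat_lit 1, nat_lit 0, nat_lit 0, nat_lit 4, nat_lit 4, nat_lit 4, nat_lit 2]) (TL.leaf [nat_lit 1, nat_lit 5, nat_lit 4, nat_lit 2, nat_lit 3, nat_lit 3, nat_lit 3, nat_lit 3, nat_lit 1, nat_lit 0, nat_lit 0, nat_lit 3, nat_lit 4])))))
noncomputable def W (i : ℕ) : List ℕ := TL.get W_t i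
def Qf_t : TN := (TN.leaf (nat_lit 0xba151338367a61393287111a3a9560bcd67256896c9ec7460850823b14c0ba9899c8246b9f55da863a0b010e20bd2a24262d2da437188c9bc303ad40b992e8bd8aa48a76daa39c02440960bc8454518955493839a78982b1bec0bdab49ca307b9ac5a928398a418820bc94eb14506552f251a88ae63304e0bcdca2d8f06512f355a808e4b24440b8e249d581a3e56538a6589076c120bb24f9b6a2728713ac2522134b1a00b89e11d8e5724cca4aa88c1ab9a880bbeb09b914b4923291b13996a60820bd9d43846f8552c129a8994c48ae40bb5c99846a21a8813ecc396b08c960b85e299226aa4ac52dc83c1b21d2c0b90aa98629699ec152083bab61ae40bbc3099634b2c8c7254838a4d19aa0bd0d69ae2f8152c911a83d5ca18440))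
noncomputable def Qf (i : ℕ) : ℕ := get9 Qf_t (nat_lit 5) (nat_lit 31) i
noncomputable def Q (j c : ℕ) : ℕ := Qf (Nat.add (Nat.mul j (nat_lit 24)) c)
def B : List ℕ := [nat_lit 17, nat_lit 1, nat_lit 16, nat_lit 14, nat_lit 12, nat_lit 0, nat_lit 23]
noncomputable def q (j : ℕ) : G22 := ev (sub G22 (Spor.fam Spor.c24)) (W j)
noncomputable def f0 : ℕ → ℕ := tabE (Spor.TP Spor.c24) Q W (nat_lit 19)
theorem a0 : Nat.beq (rng f0 (nat_lit 0) (nat_lit 24)) (nat_lit 0) = true := by decide +kernel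
theorem h0 : ∀ i < 24, f0 i = 0 := by
  have h := zero_lt_zero f0
  have h := zero_lt_add (a := (nat_lit 0)) (n := (nat_lit 24)) (b := (nat_lit 24)) h a0 rfl
  exact h
theorem md : Md Spor.gp 24 B q Q 19 := (md22).words (by decide +kernel) h0
def R_t1 : TL := (TL.node (TL.node (TL.node (TL.node (TL.node (TL.node (TL.leaf []) (TL.leaf [nat_lit 0])) (TL.node (TL.leaf [nat_lit 0]) (TL.leaf [nat_lit 0]))) (TL.node (TL.node (TL.leaf [nat_lit 0]) (TL.leaf [nat_lit 0])) (TL.leaf [nat_lit 0]))) (TL.node (TL.node (TL.node (TL.leaf []) (TL.leaf [])) (TL.node (TL.leaf []) (TL.leaf []))) (TL.node (TL.node (TL.leaf []) (TL.leaf [])) (TL.leaf [])))) (TL.node (TL.node (TL.node (TL.node (TL.leaf []) (TL.leaf [])) (TL.node (TL.leaf []) (TL.leaf []))) (TL.node (TL.node (TL.leaf []) (TL.leaf [])) (TL.leaf []))) (TL.node (TL.node (TL.node (TL.leaf []) (TL.leaf [])) (TL.node (TL.leaf []) (TL.leaf []))) (TL.node (TL.node (TL.leaf []) (TL.leaf [])) (TL.leaf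 []))))) (TL.node (TL.node (TL.node (TL.node (TL.node (TL.leaf []) (TL.leaf [nat_lit 0])) (TL.node (TL.leaf []) (TL.leaf [nat_lit 0, nat_lit 1, nat_lit 4]))) (TL.node (TL.node (TL.leaf []) (TL.leaf [nat_lit 0, nat_lit 4])) (TL.leaf []))) (TL.node (TL.node (TL.node (TL.leaf []) (TL.leaf [])) (TL.node (TL.leaf []) (TL.leaf []))) (TL.node (TL.node (TL.leaf []) (TL.leaf [])) (TL.leaf [])))) (TL.node (TL.node (TL.node (TL.node (TL.leaf []) (TL.leaf [])) (TL.node (TL.leaf []) (TL.leaf []))) (TL.node (TL.node (TL.leaf []) (TL.leaf [])) (TL.leaf []))) (TL.node (TL.node (TL.node (TL.leaf []) (TL.leaf [])) (TL.node (TL.leaf []) (TL.leaf []))) (TL.node (TL.node (TL.leaf []) (TL.leaf [])) (TL.leaf []))))))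
def R_t2 : TL := (TL.node (TL.node (TL.node (TL.node (TL.node (TL.node (TL.leaf []) (TL.leaf [nat_lit 0, nat_lit 2])) (TL.node (TL.leaf []) (TL.leaf [nat_lit 0, nat_lit 1, nat_lit 2]))) (TL.node (TL.node (TL.leaf []) (TL.leaf [nat_lit 2])) (TL.leaf [nat_lit 2]))) (TL.node (TL.node (TL.node (TL.leaf []) (TL.leaf [])) (TL.node (TL.leaf []) (TL.leaf []))) (TL.node (TL.node (TL.leaf []) (TL.leaf [])) (TL.leaf [])))) (TL.node (TL.node (TL.node (TL.node (TL.leaf []) (TL.leaf [])) (TL.node (TL.leaf []) (TL.leaf []))) (TL.node (TL.node (TL.leaf []) (TL.leaf [])) (TL.leaf []))) (TL.node (TL.node (TL.node (TL.leaf []) (TL.leaf [])) (TL.node (TL.leaf []) (TL.leaf []))) (TL.node (TL.node (TL.leaf []) (TL.leaf [])) (TL.leaf []))))) (TL.node (TL.node (TL.node (TL.node (TL.node (TL.leaf []) (TL.leaf [])) (TL.node (TL.leaf []) (TL.leaf []))) (TL.node (TL.node (TL.leaf []) (TL.leaf [])) (TL.leaf []))) (TL.node (TL.node (TL.node (TL.leaf []) (TL.leaf []))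 (TL.node (TL.leaf []) (TL.leaf []))) (TL.node (TL.node (TL.leaf []) (TL.leaf [])) (TL.leaf [])))) (TL.node (TL.node (TL.node (TL.node (TL.leaf []) (TL.leaf [])) (TL.node (TL.leaf []) (TL.leaf []))) (TL.node (TL.node (TL.leaf []) (TL.leaf [])) (TL.leaf []))) (TL.node (TL.node (TL.node (TL.leaf []) (TL.leaf [])) (TL.node (TL.leaf []) (TL.leaf []))) (TL.node (TL.node (TL.leaf []) (TL.leaf [])) (TL.leaf []))))))
def R_t3 : TL := (TL.node R_t1 R_t2)
def R_t4 : TL := (TL.node (TL.node (TL.node (TL.node (TL.node (TL.node (TL.leaf []) (TL.leaf [nat_lit 1])) (TL.node (TL.leaf [nat_lit 1]) (TL.leaf [nat_lit 1]))) (TL.node (TL.node (TL.leaf []) (TL.leaf [nat_lit 0, nat_lit 1])) (TL.leaf [nat_lit 1]))) (TL.node (TL.node (TL.node (TL.leaf []) (TL.leaf [])) (TL.node (TL.leaf []) (TL.leaf []))) (TL.node (TL.node (TL.leaf []) (TL.leaf [])) (TL.leaf [])))) (TL.node (TL.node (TL.node (TL.node (TL.leaf []) (TL.leaf [])) (TL.node (TL.leaf []) (TL.leaf [])))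 (TL.node (TL.node (TL.leaf []) (TL.leaf [])) (TL.leaf []))) (TL.node (TL.node (TL.node (TL.leaf []) (TL.leaf [])) (TL.node (TL.leaf []) (TL.leaf []))) (TL.node (TL.node (TL.leaf []) (TL.leaf [])) (TL.leaf []))))) (TL.node (TL.node (TL.node (TL.node (TL.node (TL.leaf []) (TL.leaf [])) (TL.node (TL.leaf []) (TL.leaf [nat_lit 1, nat_lit 2, nat_lit 4, nat_lit 5]))) (TL.node (TL.node (TL.leaf []) (TL.leaf [])) (TL.leaf []))) (TL.node (TL.node (TL.node (TL.leaf []) (TL.leaf [])) (TL.node (TL.leaf []) (TL.leaf []))) (TL.node (TL.node (TL.leaf []) (TL.leaf [])) (TL.leaf [])))) (TL.node (TL.node (TL.node (TL.node (TL.leaf []) (TL.leaf [])) (TL.node (TL.leaf []) (TL.leaf []))) (TL.node (TL.node (TL.leaf []) (TL.leaf [])) (TL.leaf []))) (TL.node (TL.node (TL.node (TL.leaf []) (TL.leaf [])) (TL.node (TL.leaf []) (TL.leaf []))) (TL.node (TL.node (TL.leaf []) (TL.leaf [])) (TL.leaf []))))))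
def R_t5 : TL := (TL.node (TL.node (TL.node (TL.node (TL.node (TL.node (TL.leaf []) (TL.leaf [nat_lit 0, nat_lit 1, nat_lit 3])) (TL.node (TL.leaf []) (TL.leaf [nat_lit 1, nat_lit 3]))) (TL.node (TL.node (TL.leaf []) (TL.leaf [nat_lit 2, nat_lit 3])) (TL.leaf []))) (TL.node (TL.node (TL.node (TL.leaf []) (TL.leaf [])) (TL.node (TL.leaf []) (TL.leaf []))) (TL.node (TL.node (TL.leaf []) (TL.leaf [])) (TL.leaf [])))) (TL.node (TL.node (TL.node (TL.node (TL.leaf []) (TL.leaf [])) (TL.node (TL.leaf []) (TL.leaf []))) (TL.node (TL.node (TL.leaf []) (TL.leaf [])) (TL.leaf []))) (TL.node (TL.node (TL.node (TL.leaf []) (TL.leaf [])) (TL.node (TL.leaf []) (TL.leaf []))) (TL.node (TL.node (TL.leaf []) (TL.leaf [])) (TL.leaf []))))) (TL.node (TL.node (TL.node (TL.node (TL.node (TL.leaf []) (TL.leaf [])) (TL.node (TL.leaf []) (TL.leaf []))) (TL.node (TL.node (TL.leaf []) (TL.leaf [])) (TL.leaf []))) (TL.node (TL.node (TL.node (TL.leaf []) (TL.leaf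 [])) (TL.node (TL.leaf []) (TL.leaf []))) (TL.node (TL.node (TL.leaf []) (TL.leaf [])) (TL.leaf [])))) (TL.node (TL.node (TL.node (TL.node (TL.leaf []) (TL.leaf [])) (TL.node (TL.leaf []) (TL.leaf []))) (TL.node (TL.node (TL.leaf []) (TL.leaf [])) (TL.leaf []))) (TL.node (TL.node (TL.node (TL.leaf []) (TL.leaf [])) (TL.node (TL.leaf []) (TL.leaf []))) (TL.node (TL.node (TL.leaf []) (TL.leaf [])) (TL.leaf []))))))
def R_t6 : TL := (TL.node R_t4 R_t5)
def R_t : TL := (TL.node R_t3 R_t6)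
noncomputable def R (i : ℕ) : List ℕ := TL.get R_t i
def Zm (i : ℕ) : ℕ := Nat.land (Nat.shiftRight (nat_lit 0x24924924925924924924b24924924924b24924924924924b24924924926124924924b24924924924b249249249249248) (Nat.mul (nat_lit 3) i)) (nat_lit 7)
def Zc (i : ℕ) : ℕ := Nat.land (Nat.shiftRight (nat_lit 0x8618618618618618618618618618618618618618618618618a28a28a28a28a28a28a28a28a28a28a28a28a28a28a28a28618618618618618618618618618618618618618618618618a28a28a28a28a28a28a28a2924924924924924924965000) (Nat.mul (nat_lit 6) i)) (nat_lit 63)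
def U_t1 : TL := (TL.node (TL.node (TL.node (TL.node (TL.node (TL.node (TL.leaf [nat_lit 0]) (TL.leaf [nat_lit 0])) (TL.node (TL.leaf [nat_lit 0]) (TL.leaf [nat_lit 0]))) (TL.node (TL.node (TL.leaf [nat_lit 0]) (TL.leaf [nat_lit 0])) (TL.node (TL.leaf [nat_lit 0]) (TL.leaf [nat_lit 0])))) (TL.node (TL.node (TL.node (TL.leaf []) (TL.leaf [])) (TL.node (TL.leaf []) (TL.leaf []))) (TL.node (TL.node (TL.leaf []) (TL.leaf [])) (TL.node (TL.leaf []) (TL.leaf []))))) (TL.node (TL.node (TL.node (TL.node (TL.leaf []) (TL.leaf [])) (TL.node (TL.leaf []) (TL.leaf []))) (TL.node (TL.node (TL.leaf []) (TL.leaf [])) (TL.node (TL.leaf []) (TL.leaf [])))) (TL.node (TL.node (TL.node (TL.leaf []) (TL.leaf [])) (TL.node (TL.leaf []) (TL.leaf []))) (TL.node (TL.node (TL.leaf []) (TL.leaf [])) (TL.node (TL.leaf []) (TL.leaf [])))))) (TL.node (TL.node (TL.node (TL.node (TL.node (TL.leaf [nat_lit 4]) (TL.leaf [nat_lit 4])) (TL.node (TL.leaf [nat_lit 0, nat_lit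 4]) (TL.leaf [nat_lit 0, nat_lit 1, nat_lit 4]))) (TL.node (TL.node (TL.leaf [nat_lit 4]) (TL.leaf [nat_lit 0, nat_lit 4])) (TL.node (TL.leaf [nat_lit 0, nat_lit 1, nat_lit 4]) (TL.leaf [nat_lit 1, nat_lit 4, nat_lit 5])))) (TL.node (TL.node (TL.node (TL.leaf []) (TL.leaf [])) (TL.node (TL.leaf []) (TL.leaf []))) (TL.node (TL.node (TL.leaf []) (TL.leaf [])) (TL.node (TL.leaf []) (TL.leaf []))))) (TL.node (TL.node (TL.node (TL.node (TL.leaf []) (TL.leaf [])) (TL.node (TL.leaf []) (TL.leaf []))) (TL.node (TL.node (TL.leaf []) (TL.leaf [])) (TL.node (TL.leaf []) (TL.leaf [])))) (TL.node (TL.node (TL.node (TL.leaf []) (TL.leaf [])) (TL.node (TL.leaf []) (TL.leaf []))) (TL.node (TL.node (TL.leaf []) (TL.leaf [])) (TL.node (TL.leaf []) (TL.leaf [])))))))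
def U_t2 : TL := (TL.node (TL.node (TL.node (TL.node (TL.node (TL.node (TL.leaf [nat_lit 2]) (TL.leaf [nat_lit 0, nat_lit 2])) (TL.node (TL.leaf [nat_lit 2]) (TL.leaf [nat_lit 0, nat_lit 1, nat_lit 2]))) (TL.node (TL.node (TL.leaf [nat_lit 2]) (TL.leaf [nat_lit 2])) (TL.node (TL.leaf [nat_lit 2]) (TL.leaf [nat_lit 2])))) (TL.node (TL.node (TL.node (TL.leaf []) (TL.leaf [])) (TL.node (TL.leaf []) (TL.leaf []))) (TL.node (TL.node (TL.leaf []) (TL.leaf [])) (TL.node (TL.leaf []) (TL.leaf []))))) (TL.node (TL.node (TL.node (TL.node (TL.leaf []) (TL.leaf [])) (TL.node (TL.leaf []) (TL.leaf []))) (TL.node (TL.node (TL.leaf []) (TL.leaf [])) (TL.node (TL.leaf []) (TL.leaf [])))) (TL.node (TL.node (TL.node (TL.leaf []) (TL.leaf [])) (TL.node (TL.leaf []) (TL.leaf []))) (TL.node (TL.node (TL.leaf []) (TL.leaf [])) (TL.node (TL.leaf []) (TL.leaf [])))))) (TL.node (TL.node (TL.node (TL.node (TL.node (TL.leaf []) (TL.leaf [])) (TL.node (TL.leaf [])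 (TL.leaf []))) (TL.node (TL.node (TL.leaf []) (TL.leaf [])) (TL.node (TL.leaf []) (TL.leaf [])))) (TL.node (TL.node (TL.node (TL.leaf []) (TL.leaf [])) (TL.node (TL.leaf []) (TL.leaf []))) (TL.node (TL.node (TL.leaf []) (TL.leaf [])) (TL.node (TL.leaf []) (TL.leaf []))))) (TL.node (TL.node (TL.node (TL.node (TL.leaf []) (TL.leaf [])) (TL.node (TL.leaf []) (TL.leaf []))) (TL.node (TL.node (TL.leaf []) (TL.leaf [])) (TL.node (TL.leaf []) (TL.leaf [])))) (TL.node (TL.node (TL.node (TL.leaf []) (TL.leaf [])) (TL.node (TL.leaf []) (TL.leaf []))) (TL.node (TL.node (TL.leaf []) (TL.leaf [])) (TL.node (TL.leaf []) (TL.leaf [])))))))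
def U_t3 : TL := (TL.node U_t1 U_t2)
def U_t4 : TL := (TL.node (TL.node (TL.node (TL.node (TL.node (TL.node (TL.leaf [nat_lit 1]) (TL.leaf [nat_lit 1])) (TL.node (TL.leaf [nat_lit 1]) (TL.leaf [nat_lit 1]))) (TL.node (TL.node (TL.leaf [nat_lit 1]) (TL.leaf [nat_lit 0, nat_lit 1])) (TL.node (TL.leaf [nat_lit 1]) (TL.leaf [nat_lit 1, nat_lit 2])))) (TL.node (TL.node (TL.node (TL.leaf []) (TL.leaf [])) (TL.node (TL.leaf []) (TL.leaf []))) (TL.node (TL.node (TL.leaf []) (TL.leaf [])) (TL.node (TL.leaf []) (TL.leaf []))))) (TL.node (TL.node (TL.node (TL.node (TL.leaf []) (TL.leaf [])) (TL.node (TL.leaf []) (TL.leaf []))) (TL.node (TL.node (TL.leaf []) (TL.leaf [])) (TL.node (TL.leaf []) (TL.leaf [])))) (TL.node (TL.node (TL.node (TL.leaf []) (TL.leaf [])) (TL.node (TL.leaf []) (TL.leaf []))) (TL.node (TL.node (TL.leaf []) (TL.leaf [])) (TL.node (TL.leaf []) (TL.leaf [])))))) (TL.node (TL.node (TL.node (TL.node (TL.node (TL.leaf [nat_lit 5])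 (TL.leaf [nat_lit 0, nat_lit 5])) (TL.node (TL.leaf [nat_lit 5]) (TL.leaf [nat_lit 1, nat_lit 2, nat_lit 4, nat_lit 5]))) (TL.node (TL.node (TL.leaf [nat_lit 0, nat_lit 5]) (TL.leaf [nat_lit 5])) (TL.node (TL.leaf [nat_lit 2, nat_lit 5]) (TL.leaf [nat_lit 2, nat_lit 5])))) (TL.node (TL.node (TL.node (TL.leaf []) (TL.leaf [])) (TL.node (TL.leaf []) (TL.leaf []))) (TL.node (TL.node (TL.leaf []) (TL.leaf [])) (TL.node (TL.leaf []) (TL.leaf []))))) (TL.node (TL.node (TL.node (TL.node (TL.leaf []) (TL.leaf [])) (TL.node (TL.leaf []) (TL.leaf []))) (TL.node (TL.node (TL.leaf []) (TL.leaf [])) (TL.node (TL.leaf []) (TL.leaf [])))) (TL.node (TL.node (TL.node (TL.leaf []) (TL.leaf [])) (TL.node (TL.leaf []) (TL.leaf []))) (TL.node (TL.node (TL.leaf []) (TL.leaf [])) (TL.node (TL.leaf []) (TL.leaf [])))))))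
def U_t5 : TL := (TL.node (TL.node (TL.node (TL.node (TL.node (TL.node (TL.leaf [nat_lit 3]) (TL.leaf [nat_lit 0, nat_lit 1, nat_lit 3])) (TL.node (TL.leaf [nat_lit 3]) (TL.leaf [nat_lit 1, nat_lit 3]))) (TL.node (TL.node (TL.leaf [nat_lit 3]) (TL.leaf [nat_lit 2, nat_lit 3])) (TL.node (TL.leaf [nat_lit 3]) (TL.leaf [nat_lit 0, nat_lit 2, nat_lit 3])))) (TL.node (TL.node (TL.node (TL.leaf []) (TL.leaf [])) (TL.node (TL.leaf []) (TL.leaf []))) (TL.node (TL.node (TL.leaf []) (TL.leaf [])) (TL.node (TL.leaf []) (TL.leaf []))))) (TL.node (TL.node (TL.node (TL.node (TL.leaf []) (TL.leaf [])) (TL.node (TL.leaf []) (TL.leaf []))) (TL.node (TL.node (TL.leaf []) (TL.leaf [])) (TL.node (TL.leaf []) (TL.leaf [])))) (TL.node (TL.node (TL.node (TL.leaf []) (TL.leaf [])) (TL.node (TL.leaf []) (TL.leaf []))) (TL.node (TL.node (TL.leaf []) (TL.leaf [])) (TL.node (TL.leaf []) (TL.leaf [])))))) (TL.node (TL.node (TL.node (TL.node (TL.node (TL.leaf [])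 (TL.leaf [])) (TL.node (TL.leaf []) (TL.leaf []))) (TL.node (TL.node (TL.leaf []) (TL.leaf [])) (TL.node (TL.leaf []) (TL.leaf [])))) (TL.node (TL.node (TL.node (TL.leaf []) (TL.leaf [])) (TL.node (TL.leaf []) (TL.leaf []))) (TL.node (TL.node (TL.leaf []) (TL.leaf [])) (TL.node (TL.leaf []) (TL.leaf []))))) (TL.node (TL.node (TL.node (TL.node (TL.leaf []) (TL.leaf [])) (TL.node (TL.leaf []) (TL.leaf []))) (TL.node (TL.node (TL.leaf []) (TL.leaf [])) (TL.node (TL.leaf []) (TL.leaf [])))) (TL.node (TL.node (TL.node (TL.leaf []) (TL.leaf [])) (TL.node (TL.leaf []) (TL.leaf []))) (TL.node (TL.node (TL.leaf []) (TL.leaf [])) (TL.node (TL.leaf []) (TL.leaf [])))))))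
def U_t6 : TL := (TL.node U_t4 U_t5)
def U_t : TL := (TL.node U_t3 U_t6)
noncomputable def U (i : ℕ) : List ℕ := TL.get U_t i
noncomputable def f1 : ℕ → ℕ := mvE Q (nat_lit 24) (nat_lit 2) (nat_lit 7) Zm
theorem b0 : Nat.beq (rng f1 (nat_lit 0) (nat_lit 128)) (nat_lit 0) = true := by decide +kernel
theorem h1 : ∀ i < 128, f1 i = 0 := by
  have h := zero_lt_zero f1
  have h := zero_lt_add (a := (nat_lit 0)) (n := (nat_lit 128)) (b := (nat_lit 128)) h b0 rfl
  exact h
theorem sy : Sy q 2 7 R := md.sy' (by decide) (by decide) (upTo_beq (by decide +kernel)) (pr := 128) rfl h1 (by rw [Spor.card22]; decide)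
noncomputable def f2 : ℕ → ℕ := ncE Q (nat_lit 24) (nat_lit 6) (nat_lit 7) (nat_lit 64) Zc
theorem c0 : Nat.beq (rng f2 (nat_lit 0) (nat_lit 128)) (nat_lit 0) = true := by decide +kernel
theorem h2 : ∀ i < 128, f2 i = 0 := by
  have h := zero_lt_zero f2
  have h := zero_lt_add (a := (nat_lit 0)) (n := (nat_lit 128)) (b := (nat_lit 128)) h c0 rfl
  exact h
def sg (i : ℕ) : ℕ := Nat.land (Nat.shiftRight (nat_lit 47768) (Nat.mul (nat_lit 4) i)) (nat_lit 15)
def si (i : ℕ) : ℕ := Nat.land (Nat.shiftRight (nat_lit 43913) (Nat.mul (nat_lit 4) i)) (nat_lit 15)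
def V_t : TN := (TN.node (TN.node (TN.leaf (nat_lit 0x58a3401019423750346e7000a101902009d8a13866699c406ad1c0728a44c6708d8311331c2680c3018700000460520225cc110061da23853298825ce6114700d7280e194a324e0d30601d528d339c1d5cc4cb27076730005106024e534e7023028041103254c052a5097231140203330c304a708953039b1808a0a6aec809d73802e1008d4e00c040d9d30b2d1c29c100eac603623801b1420d8c00b0400d62852c980288a0b3a6029c38341981588c031850ccd3ac52a058d8e01aa5730d401451c28d90114a700c920041180064604b050220280d3145a68e2b9870095205011c9a00e04e6500892014e983634c02c4501822906d1c5a20e111870c2031119a08960e41b270a08306b398059ca0aec6022231144200080606065002918b449c00a0611aa600c230339980994a394070263300ac94588ce604a72359381381808a4a3986762354001b8c8288e04b451da03818514328ce46ac7003730014900288800464962840d2c9c98dd004ee605a030b141c0300a06ac5097341ae51c29dce12cc782684112c9cd5c0e114460a58303019869d4e0c0460a0940064940a5ca04665033738613188888e004630360300138c880ce0190425c03806610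0cd50044c5023228066940cc0c004c30595313341c2280e6132733284014b142970c104c61972384ee1c0cd8e184e600221866e1c2220c104e60969300411409a4a000c29d96480c014cda0e18107015828441180da4a1346601c02851420002045106718a238650182730e66647369a382b498020ca134460d8d40046900c94a000e21c0a3904c200d74b4d38808a73004510220cc19046180a38b3a9c25dcc5104758da40e4e1c1964c04406258c38005145664e119a606973046118065ca2cce7009920b319c0724a106c80d62314111c03348194c7096840ad31ca65ce1980600d8284131c1d70c01ba60333280c49409c0a14ba6080a30033108880e0666800c3206c6180830e0c606007220061140a34e11ae71968380199258c1000404003230198145dd8e014a40da53806e101c9cc05047007620d061e295d01314759c84053b180024811326009530cc11c2734e03305068d3000b0c2364e1ab461808384191d826901050701d828644181c24cb14e819cd383ad180c24c1ac06066536114a0330cc31ae700081813a98809ce06c651827380068c2359001b2603372946c1c1880c1aba701d92812c988cd901ae465a22400649800d482c64702803066d200258800e0418833802e900dcca03b85003028b401c25a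0e0b2e6028928cc51c0828c006660c203b144a00264a613870a773192ca099dce4cb87098930c469c25d4c3b1470dca30b3b9c01dc800e6400d5381939c2334e04ba708d638066180a0ce002e319833819498035480130507263052d181824c00644626241b861c0024610468258a380419998dd04b388057730011940598a0446603022814d142568c52cc720c8400e614058ca2eca7020a2acb3a00cdcc446489635414ed20069ca6c64702884010695965d03aee78c09411051c05a4a019a7025c38144143598c00505008028010180668a041071666384ce182894c01b25083740461980c30e0530618dc38060102668c004e6159c3819920019c80d2c6030832b99a002008331a729963866d181634c19b261cdc384ac1c0658a0ae060280284139c8370eb32c80d6330b311d763104e1472762380000c03088393472599402eb980a70a02ea5023530331982624e0618575764006b1c0d8904ece70002181049962810006c400a6300ed140274a0e04606663019a9a2631003ac505d830d319c1c20c2c52718a538114995d9d00064500a720194181a68cacea80a60380069435d8e0ec46)) (TN.leaf (nat_lit 0x3ae6201658c066c508d740338181d74c06e4500da28513a06624e1ae6600cd300d295637100532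505da3003a900d80e06c4500dd28006900228a4eca823374014e9c0cdd0304c7070a30cb31c7634e384c715d8391b11c629ce3b347009720661186208e06d281ca3380b4140830a04ac71cc0394e11c0cc8c4140708d73604ba00288e1b3060025200661c69d8e0cac601762846518828900bba60236311131c7374f144a80c2330ce11c8a54e0418802803806c1c1898c451880963302b9180a0ca0cb4608a33813314369cc01ae4088a3811b983374c001250c25384511c69dce0146708d63014114c25500050605603012d182588c066661d733812b9c068ca0118705733004414195cc1b4c600652060498d580e01ac4026728404987274e02ee50c2230046103294ec46c8099d305139a65c904ace7270d3b4182028ccc444a700a7293b3201664c014040035181b414ca5d066e07))) (TN.leaf (nat_lit 0xa58400411c95a4e00643015d280641c1cc8c32ca70225284e01c0d5cc01125025628113188cd4e4b4a7095c403301801a08052e7020d3051b180d98a04d05025a383b498a0cd23114706693005294d588e06127025728c6c9ca0a4e006a608dc403ba980a24ec50080ccd404ec983670e2bb4705a2301b3945d8ce014c50a3230538180d58c39b270c30302cc18020ce014063256380198c0094a044e6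0296398411d666901b866225a38505180654a013840188284c69c3720cd2ca805d63019120075ca6514800da3801b900970a0e1a600a73066c1801a484bac70228313349d5d8100cc460703312b4a236210000630d6530e141c029880ec6603094034c983254e14d26235a44ad2a02768e0046609d93800e8c00cca01ae706673019318d628e0e50625dc4ab9820232900012230234311820000c2101a60a7340031900014506ce80096285069995d5000b44009728b4e9d673500118635723853a9820a0c064e61c23381b814018881b4060358281b31c9624e04ba5008821ab99c000820c506009a20104180568a00ae4063730413a082290011a60260304111c369ce4e4c803693000a8c015881b0070373404e49c208ce1304702373831b1800084031a520dd39b012000286193060c96398641c6280e2eb87020938001880370e104c818da3819298260ce000011670381849400c0601866356840504209754e05346356940acd1c29d8e192c60262311ab9c5634e0512600a3201ab946824e0ce46003618398180d74c006c619583c66b200d70a1440820a3380128c5964e2c44709724013b182270e19447036538346181c94c004440967386ae1818c8c0518509a6311811c0080a03145167338319985994e1132700c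23c4b4a0082500030300a0299819c59c8e12d27029d2806c10a768e0604608c3381311400a4a05305029a38cc61c00c0c3b1872335404d399c2310460670098206c518a328e19aa6d5ca40018103668c013850d9640046941628c0ed061d8838452988a24e12b08209a3866e180328a10666095d404cb9808c8e118060776334eba00594a0010500022066a9c099cc01006da69400ce14a75ce1192618c03800d0c6328e0510700a330619180370ae11a80d7030aec9c0230a3334702333006c180d70c0144608293812b18159cc4cb0708363801390000c82b3a70ca038510183308e32b273356380000809c8c106e6015c280060c6360e41b281cda399301c00a0819867269d38c4c1c2708c0bb2609c33833418cdcce014a60959391ad1d9c2500eee6000c290529c3328e66ee700c0318139dcc090046a503082b2b0203334c06d080a6030065181cdcc0b4c608d83b181203694c019850588300ee941a74c46ba8195d3806c900254a4b1a7058c300419018a4c001042257394c0202570e6b3470209284ec188295004066225d38eeb9c6354e0e5261ddc38118186728e132c61d58381199c7094e3b4a71d5a382ce180c80a2c6e709cd30c641c8a20e066a509c23811918cdc900ac662962381b19ccd80e06667009731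04c1c20c9012e06001c180061009ccc46187235838006081d98c0d04601992844b180258c006e5036330013100c98a19ba70059204e51c0708a04045028d28444980d60c0194405663004e9025d903b467c22840eae9c2220e3ae070359281111408d8a0644501a02831a988281004b8608293066b980034401b4408cc32b38209698e0cb8603663031118188cc06ce60a0c4044c1c2568e3b4e7020d398601c9a20e3118705a7301941425c8e652a80c33300e6948d692061a7175d384bba0c88ce06c460825304ac982260c44e480dc931ac49c3560c184a80988386ae9800042334a70a294012b9809dca04186)))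
noncomputable def V (i : ℕ) : ℕ := get9 V_t (nat_lit 21) (nat_lit 0x1fffff) i
noncomputable def f3 : ℕ → ℕ := clE Q sg si (nat_lit 24) (nat_lit 0) [nat_lit 17, nat_lit 1, nat_lit 16, nat_lit 14, nat_lit 12] V
theorem d0 : Nat.beq (rng f3 (nat_lit 0) (nat_lit 1154)) (nat_lit 0) = true := by decide +kernel
theorem h3 : ∀ i < 1154, f3 i = 0 := by
  have h := zero_lt_zero f3
  have h := zero_lt_add (a := (nat_lit 0)) (n := (nat_lit 1154)) (b := (nat_lit 1154)) h d0 rfl
  exact h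
theorem loc : Loc q 6 7 8 R := md.loc sy (by decide) (ps := 64) (pr := 128) ⟨rfl, rfl⟩ h2 (U := U)
  (upTo_beq (by decide +kernel)) (l := [([nat_lit 3, nat_lit 6, nat_lit 7], (nat_lit 3))]) (by decide +kernel) ⟨by decide, by decide⟩
  (md.cls (by decide +kernel) h3 fun _ _ => trivial) (by rw [Spor.card22]; decide)
def cH_t : TL := (TL.node (TL.leaf []) (TL.leaf [nat_lit 1, nat_lit 7, nat_lit 3]))
noncomputable def cH (i : ℕ) : List ℕ := TL.get cH_t i
def cI_t : TL := (TL.node (TL.leaf []) (TL.leaf [nat_lit 3, nat_lit 7, nat_lit 7, nat_lit 7, nat_lit 1]))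
noncomputable def cI (i : ℕ) : List ℕ := TL.get cI_t i
def cW_t : TL := (TL.node (TL.leaf []) (TL.leaf [nat_lit 6]))
noncomputable def cW (i : ℕ) : List ℕ := TL.get cW_t i
def cE (i : ℕ) : ℕ := Nat.land (Nat.shiftRight (nat_lit 2) (Nat.mul (nat_lit 1) i)) (nat_lit 1)
theorem core : Core q 6 7 8 := md.core (k := 1) loc (by decide) (H := cH) (H' := cI) (W := cW) (E := cE) (pk := 2) rfl
  (upTo_beq (by decide +kernel))

end Cfsg.Agent.Ct.M22
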